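import Cfsg.Agent.H577.GLB.Lab
import Cfsg.Agent.H577.GLB.StdCount
import Cfsg.Agent.H623.GLn.Cop
import Cfsg.Agent.H624.Sl.Defs
import Cfsg.Agent.H809.GLB.Twist
import Cfsg.Agent.H614.GLn.RSTau
import Cfsg.Agent.H112.GLB.Gb3

/-!
# S4536, D4-F4 (helper947): cuspidal characters fixed by a linear character
-/

set_option autoImplicit false
set_option linter.unusedSectionVars false
open Polynomial Cfsg
open scoped ComplexConjugate TensorProduct MatrixGroups

namespace Cfsg.Agent.H947.GLn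

open Cfsg.Agent.H614 Cfsg.Agent.H614.GLn Cfsg.Agent.H577.GLB.Std Cfsg.Agent.H624.Sl Cfsg.Agent.Blocks.Local
open Cfsg.Agent.H577.GLB.Real (Om lin linH)

universe u v w

/-- a label fixed by the twist -/
theorem twist_rv {Q : ℤ} {M : ℕ} [NeZero M] (hQ : IsUnit (Q : ZMod M)) {k : ℕ} (hk : 0 < k) {δ a : ZMod M}
    (ha : TorZ Q M 1 a) (hT : TorZ Q M k δ) (hδa : ∃ j : ℕ, δ + a = (Q : ZMod M) ^ j * δ) :
    twist Q M a (rv Q M k δ) = rv Q M k δ := by
  have hQa : (Q : ZMod M) * a = a := by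
    unfold TorZ at ha
    rw [pow_one, sub_mul, one_mul] at ha
    exact sub_eq_zero.1 ha
  have hQa' : ∀ j : ℕ, (Q : ZMod M) ^ j * a = a := by
    intro j
    induction j with
    | zero => rw [pow_zero, one_mul]
    | succ j ih => rw [pow_succ, mul_assoc, hQa, ih]
  obtain ⟨i, hi⟩ := H623.GLn.canon_spec Q δ
  obtain ⟨j, hj⟩ := hδa
  have h1 : twist Q M a (rv Q M k δ) = rv Q M k (canon Q M δ + a) := by
    rw [rv, if_pos ⟨hk, hT⟩]
    exact MvPolynomial.aeval_X _ _
  have h2 : canon Q M δ + a = (Q : ZMod M) ^ i * (δ + a) := by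
    rw [hi, mul_add, hQa']
  rw [h1, h2, RSt.rv_pow_mul hQ, hj, RSt.rv_pow_mul hQ]

/-- the linear character of the extension field is the norm of the one of the small field -/
theorem lin_norm {F : Type u} [Field F] [Finite F] {K : Type u} [Field K] [Finite K] [Algebra F K] {θ : K →*₀ ℂ}
    {M : ℕ} [NeZero M] (E : IntermediateField F K) [Finite E] {a : ZMod M} (ha : TorZ (Nat.card F) M 1 a)
    (haE : TorZ (Nat.card E) M 1 a) (y : Eˣ) :
    θ (algebraMap E K (y : E)) ^ expo (Nat.card E) M 1 a = lin F θ M a (nrm F E y) := by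
  have hq : 1 < Nat.card F := Finite.one_lt_card
  have hqE : 1 < Nat.card E := Finite.one_lt_card
  have hM : 0 < M := Nat.pos_of_ne_zero (NeZero.ne M)
  have h1 := H623.GLn.expo_mul (by omega) ha
  have h2 := H623.GLn.expo_mul (by omega) haE
  rw [pow_one] at h1 h2
  have hdvd : Nat.card F - 1 ∣ Nat.card E - 1 := by
    rw [Module.natCard_eq_pow_finrank (K := F) (V := E)]
    exact Nat.sub_one_dvd_pow_sub_one _ _
  obtain ⟨r, hr⟩ := hdvd
  have hdiv : (Nat.card E - 1) / (Nat.card F - 1) = r := by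
    rw [hr, Nat.mul_div_cancel_left _ (by omega)]
  have he : expo (Nat.card E) M 1 a = r * expo (Nat.card F) M 1 a := by
    apply Nat.eq_of_mul_eq_mul_right hM
    rw [h2, hr, mul_assoc, h1]
    ring
  have hN : algebraMap F E (Algebra.norm F (y : E)) = (y : E) ^ r := by
    rw [FiniteField.algebraMap_norm_eq_pow, hdiv]
  have hN' : algebraMap F K (Algebra.norm F (y : E)) = (algebraMap E K (y : E)) ^ r := by
    rw [IsScalarTower.algebraMap_apply F E K, hN, map_pow]
  rw [lin]
  show _ = θ (algebraMap F K (Algebra.norm F (y : E))) ^ _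
  rw [hN', he, pow_mul, map_pow]

section gl
variable {F : Type u} [Field F] [Finite F] {K : Type u} [Field K] [Algebra F K] {θ : K →*₀ ℂ} {N M : ℕ} [NeZero M]
  {p : ℕ} {𝔐 : Ideal AlgInt} [𝔐.IsPrime]

/-- F4: the cuspidal character with label `δ` of `GL_k(E)` is fixed by the linear character with label `a` if
`δ + a` is in the orbit of `δ` over `E`; the linear character of `GL_k(E)` is the norm of the one over `F` -/
theorem cusp_fix (hctx : Ctx F θ N M) (hN : 1 ≤ N) (E : IntermediateField F K) [Finite E] {k : ℕ} (hk : 0 < k)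
    (hctxE : Ctx E θ k M) (δ a : ZMod M) (ha : TorZ (Nat.card F) M 1 a)
    (hδa : ∃ j : ℕ, δ + a = ((Nat.card E : ℕ) : ZMod M) ^ j * δ) (hT : TorZ (Nat.card E) M k δ)
    (χ : IrrCharacter (GL (Fin k) E))
    (hχ : ∀ g, (χ : GL (Fin k) E → ℂ) g = (-1) ^ (k - 1) * Om (F := E) θ M k (rv (Nat.card E) M k δ) g) :
    FixIrr (dch k ((linH F θ M a).comp (Cfsg.Agent.H624.Sl.nrm F E))) (χ : GL (Fin k) E → ℂ) := by
  intro g hg
  have hfK : Finite K := hctx.finK
  have hQ : IsUnit (((Nat.card E : ℕ) : ℤ) : ZMod M) := H112.GLB.isUnit_card hctxE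
  have haE : TorZ (Nat.card E) M 1 a := by
    have hq : Nat.card E = Nat.card F ^ Module.finrank F E := Module.natCard_eq_pow_finrank (K := F) (V := E)
    have h1 := H809.GLB.torZ_of_one ha (Module.finrank F E)
    unfold TorZ at h1 ⊢
    rw [pow_one, hq]
    push_cast at h1 ⊢
    exact h1
  have htw := twist_rv hQ hk haE hT (by
    obtain ⟨j, hj⟩ := hδa
    exact ⟨j, by rw [hj]; push_cast; rfl⟩)
  have h2 := Cfsg.Agent.H577.GLB.Real.Om_twist' (F := E) hctxE le_rfl a haE (Cfsg.Agent.H112.GLB.rv_mem_hom k δ) g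
  rw [htw] at h2
  have hOm : Om (F := E) θ M k (rv (Nat.card E) M k δ) g ≠ 0 := by
    intro h0
    apply hg
    rw [hχ, h0, mul_zero]
  have h3 : θ (algebraMap E K (Matrix.GeneralLinearGroup.det g : E)) ^ expo (Nat.card E) M 1 a = 1 := by
    have h4 : (1 : ℂ) * Om (F := E) θ M k (rv (Nat.card E) M k δ) g =
        θ (algebraMap E K (Matrix.GeneralLinearGroup.det g : E)) ^ expo (Nat.card E) M 1 a *
          Om (F := E) θ M k (rv (Nat.card E) M k δ) g := by rw [one_mul]; exact h2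
    exact (mul_right_cancel₀ hOm h4).symm
  have h5 := lin_norm (θ := θ) E ha haE (Matrix.GeneralLinearGroup.det g)
  apply Units.ext
  show ((linH F θ M a (nrm F E (Matrix.GeneralLinearGroup.det g)) : ℂˣ) : ℂ) = ((1 : ℂˣ) : ℂ)
  rw [Cfsg.Agent.H577.GLB.Real.linH_apply, ← h5, h3, Units.val_one]

end gl

end Cfsg.Agent.H947.GLn
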